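import Mathlib
import Cfsg.Agent.H68.TitsMul
import Cfsg.Agent.ChevalleyStructure.WordEntry
import Cfsg.Agent.H800.Sp.Base_m3
import Cfsg.Agent.FastGrp
import Cfsg.Agent.Prune
set_option linter.all false
prune_inst 0x7f00000000000000000000000000000000000000000000000000000000000000000000000000000000000000000000000000000000000000000000000000000000000000000000000000000000000000003fffffffffffffffffffffffffffbeffbdffffffff
open scoped Cfsg.Agent.FastGrp

/-!
# The Sylow `3`-subgroups of `²F₄(q)` are not abelian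

They contain the Sylow `3`-subgroup `3^{1+2}` of the Tits group.
-/

set_option autoImplicit false

namespace Cfsg.Agent.H42.Tw

open Subgroup Cfsg Cfsg.Lie Cfsg.Agent.H795

section

variable {G : Type*} [Group G]

theorem isPGroup_zpowers {p : ℕ} {x : G} (hx : x ^ p = 1) : IsPGroup p (zpowers x) := by
  rintro ⟨y, hy⟩
  obtain ⟨n, rfl⟩ := mem_zpowers_iff.1 hy
  refine ⟨1, Subtype.ext ?_⟩
  change (x ^ n) ^ p ^ 1 = 1
  rw [pow_one, ← zpow_natCast, ← zpow_mul, mul_comm, zpow_mul, zpow_natCast, hx, one_zpow]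

theorem mem_normalizer_of' {H : Subgroup G} {g : G} (h : ∀ x ∈ H, g * x * g⁻¹ ∈ H) (h' : ∀ x ∈ H, g⁻¹ * x * g ∈ H) :
    g ∈ normalizer (H : Set G) := by
  refine mem_normalizer_iff.2 fun y => ⟨fun hy => h y hy, fun hy => ?_⟩
  have h1 := h' _ hy
  have e : g⁻¹ * (g * y * g⁻¹) * g = y := by group
  rwa [e] at h1

/-- two elements of order `p` with central commutator generate a `p`-group -/
theorem exists_pgroup {p : ℕ} [Fact p.Prime] {x y z : G} (hx : x ^ p = 1) (hy : y ^ p = 1) (hzx : z * x = x * z)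
    (hzy : z * y = y * z) (h : x * y = z * (y * x)) : ∃ P : Subgroup G, IsPGroup p P ∧ x ∈ P ∧ y ∈ P := by
  have hz : z ^ p = 1 := by
    have h1 : x * y * x⁻¹ = z * y := by rw [h]; group
    have h2 : (x * y * x⁻¹) ^ p = (z * y) ^ p := by rw [h1]
    rw [conj_pow, hy, mul_one, mul_inv_cancel, (show Commute z y from hzy).mul_pow, hy, mul_one] at h2
    exact h2.symm
  have hA : IsPGroup p (zpowers x ⊔ zpowers z : Subgroup G) := by
    refine IsPGroup.to_sup_of_normal_right' (isPGroup_zpowers hx) (isPGroup_zpowers hz) ?_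
    rw [zpowers_le]
    have h3 : ∀ w ∈ zpowers z, x * w = w * x := by
      intro w hw
      obtain ⟨n, rfl⟩ := mem_zpowers_iff.1 hw
      exact ((show Commute z x from hzx).zpow_left n).symm
    refine mem_normalizer_of' (fun w hw => ?_) (fun w hw => ?_)
    · rw [h3 w hw, mul_inv_cancel_right]
      exact hw
    · rw [mul_assoc, ← h3 w hw, inv_mul_cancel_left]
      exact hw
  have hxA : x ∈ (zpowers x ⊔ zpowers z : Subgroup G) := mem_sup_left (mem_zpowers x)
  have hzA : z ∈ (zpowers x ⊔ zpowers z : Subgroup G) := mem_sup_right (mem_zpowers z)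
  refine ⟨zpowers y ⊔ (zpowers x ⊔ zpowers z), ?_, mem_sup_right hxA, mem_sup_left (mem_zpowers y)⟩
  refine IsPGroup.to_sup_of_normal_right' (isPGroup_zpowers hy) hA ?_
  rw [zpowers_le]
  have e1 : y * x * y⁻¹ = z⁻¹ * x := by
    have : y * x = z⁻¹ * (x * y) := by rw [h]; group
    rw [this]; group
  have e2 : y * z * y⁻¹ = z := by rw [← hzy]; group
  have e3 : y⁻¹ * x * y = z * x := by
    have : x * y = y * (z * x) := by rw [h, ← mul_assoc, hzy]; group
    rw [mul_assoc, this]; group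
  have e4 : y⁻¹ * z * y = z := by rw [mul_assoc, hzy]; group
  refine mem_normalizer_of' ?_ ?_
  · have : (zpowers x ⊔ zpowers z : Subgroup G) ≤ (zpowers x ⊔ zpowers z : Subgroup G).comap
        (MulAut.conj y).toMonoidHom := by
      refine sup_le (zpowers_le.2 ?_) (zpowers_le.2 ?_)
      · show y * x * y⁻¹ ∈ (zpowers x ⊔ zpowers z : Subgroup G)
        rw [e1]; exact mul_mem (inv_mem hzA) hxA
      · show y * z * y⁻¹ ∈ (zpowers x ⊔ zpowers z : Subgroup G)
        rw [e2]; exact hzA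
    exact fun w hw => this hw
  · have : (zpowers x ⊔ zpowers z : Subgroup G) ≤ (zpowers x ⊔ zpowers z : Subgroup G).comap
        (MulAut.conj y⁻¹).toMonoidHom := by
      refine sup_le (zpowers_le.2 ?_) (zpowers_le.2 ?_)
      · show y⁻¹ * x * y⁻¹⁻¹ ∈ (zpowers x ⊔ zpowers z : Subgroup G)
        rw [inv_inv, e3]; exact mul_mem hzA hxA
      · show y⁻¹ * z * y⁻¹⁻¹ ∈ (zpowers x ⊔ zpowers z : Subgroup G)
        rw [inv_inv, e4]; exact hzA
    intro w hw
    have h5 := this hw
    change y⁻¹ * w * y⁻¹⁻¹ ∈ (zpowers x ⊔ zpowers z : Subgroup G) at h5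
    rwa [inv_inv] at h5

/-- an abelian Sylow `p`-subgroup forces all `p`-subgroups to be abelian -/
theorem comm_of_sylow [Finite G] {p : ℕ} [Fact p.Prime] (S : Sylow p G) (hS : IsMulCommutative (S : Subgroup G))
    {P : Subgroup G} (hP : IsPGroup p P) {x y : G} (hx : x ∈ P) (hy : y ∈ P) : x * y = y * x := by
  obtain ⟨Q, hQ⟩ := hP.exists_le_sylow
  obtain ⟨g, hg⟩ := MulAction.exists_smul_eq G Q S
  have hmem : ∀ x ∈ P, g * x * g⁻¹ ∈ (S : Subgroup G) := by
    intro x hx
    rw [← hg, Sylow.coe_subgroup_smul]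
    exact Subgroup.smul_mem_pointwise_smul x (MulAut.conj g) (Q : Subgroup G) (hQ hx)
  have h1 := comm_of hS (hmem x hx) (hmem y hy)
  have e1 : g * x * g⁻¹ * (g * y * g⁻¹) = g * (x * y) * g⁻¹ := by group
  have e2 : g * y * g⁻¹ * (g * x * g⁻¹) = g * (y * x) * g⁻¹ := by group
  rw [e1, e2] at h1
  exact mul_left_cancel (mul_right_cancel h1)

end

theorem exists_of_sub {G : Type*} [Group G] {H : Subgroup G} {x y z : H} (hx : x ^ 3 = 1) (hy : y ^ 3 = 1)
    (h1 : z * x = x * z) (h2 : z * y = y * z) (h3 : x * y = z * (y * x)) (h4 : z ≠ 1) :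
    ∃ x y z : G, x ^ 3 = 1 ∧ y ^ 3 = 1 ∧ z * x = x * z ∧ z * y = y * z ∧ x * y = z * (y * x) ∧ z ≠ 1 := by
  refine ⟨x, y, z, ?_, ?_, ?_, ?_, ?_, fun h => h4 (Subtype.ext h)⟩
  · rw [← Subgroup.coe_pow, hx, Subgroup.coe_one]
  · rw [← Subgroup.coe_pow, hy, Subgroup.coe_one]
  · rw [← Subgroup.coe_mul, h1, Subgroup.coe_mul]
  · rw [← Subgroup.coe_mul, h2, Subgroup.coe_mul]
  · rw [← Subgroup.coe_mul, h3, Subgroup.coe_mul, Subgroup.coe_mul]

/-- the elements of order 3 of `²F₄(2)` -/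
theorem exists_three : ∃ x y z : ↥(Lie.twistedF4 (ZMod 2) 1), x ^ 3 = 1 ∧ y ^ 3 = 1 ∧ z * x = x * z ∧ z * y = y * z ∧
    x * y = z * (y * x) ∧ z ≠ 1 := by
  have key : ∀ T : Subgroup (GL Cfsg.Agent.ChevalleyStructure.Tits.Mat.I52 (ZMod 2)), T = Cfsg.Agent.ChevalleyStructure.Tits.Order.H0 →
      ∃ x y z : ↥T, x ^ 3 = 1 ∧ y ^ 3 = 1 ∧ z * x = x * z ∧ z * y = y * z ∧ x * y = z * (y * x) ∧ z ≠ 1 := by
    rintro _ rfl
    have hx : H68.TitsMul.E H68.TitsMul.x3 ^ 3 = 1 := by
      rw [← H68.TitsMul.E_rep, H68.TitsMul.three_e, H68.TitsMul.E_nil]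
    have hy : H68.TitsMul.E H68.TitsMul.y3 ^ 3 = 1 := by
      rw [← H68.TitsMul.E_rep, H68.TitsMul.three_f, H68.TitsMul.E_nil]
    have hcx : H68.TitsMul.E H68.TitsMul.w3 ^ 8 * H68.TitsMul.E H68.TitsMul.x3 =
        H68.TitsMul.E H68.TitsMul.x3 * H68.TitsMul.E H68.TitsMul.w3 ^ 8 := by
      rw [← H68.TitsMul.E_rep, ← H68.TitsMul.E_append, H68.TitsMul.three_c, H68.TitsMul.E_append]
    have hcy : H68.TitsMul.E H68.TitsMul.w3 ^ 8 * H68.TitsMul.E H68.TitsMul.y3 =
        H68.TitsMul.E H68.TitsMul.y3 * H68.TitsMul.E H68.TitsMul.w3 ^ 8 := by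
      rw [← H68.TitsMul.E_rep, ← H68.TitsMul.E_append, H68.TitsMul.three_d, H68.TitsMul.E_append]
    have hc1 : H68.TitsMul.E H68.TitsMul.w3 ^ 8 ≠ 1 := by
      rw [← H68.TitsMul.E_rep, ← H68.TitsMul.E_nil]; exact H68.TitsMul.three_i
    have hc : H68.TitsMul.E H68.TitsMul.x3 * H68.TitsMul.E H68.TitsMul.y3 = H68.TitsMul.E H68.TitsMul.w3 ^ 8 *
        (H68.TitsMul.E H68.TitsMul.y3 * H68.TitsMul.E H68.TitsMul.x3) := by
      rw [← H68.TitsMul.E_append, H68.TitsMul.three_b, H68.TitsMul.E_append, H68.TitsMul.E_append,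
        H68.TitsMul.E_rep]
    exact exists_of_sub hx hy hcx hcy hc hc1
  exact key _ Cfsg.Agent.ChevalleyStructure.Tits.Main.T0_eq_H0

/-- `²F₄(2) ≤ ²F₄(q)` -/
noncomputable def glF (F K : Type*) [Field F] [Field K] (f : F →+* K) : GL chevF4.Idx F →* GL chevF4.Idx K :=
  Units.map (RingHom.mapMatrix f : Matrix chevF4.Idx chevF4.Idx F →+* Matrix chevF4.Idx chevF4.Idx K).toMonoidHom

theorem coe_glF (F K : Type*) [Field F] [Field K] (f : F →+* K) (g : GL chevF4.Idx F) :
    ((glF F K f g : GL chevF4.Idx K) : Matrix chevF4.Idx chevF4.Idx K) = (g : Matrix chevF4.Idx chevF4.Idx F).map f :=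
  rfl

theorem glF_injective (F K : Type*) [Field F] [Field K] (f : F →+* K) : Function.Injective (glF F K f) := by
  intro a b hab
  apply Units.ext
  have h1 := congrArg (fun g : GL chevF4.Idx K => (g : Matrix chevF4.Idx chevF4.Idx K)) hab
  simp only [coe_glF] at h1
  exact Matrix.map_injective f.injective h1

theorem glF_mem (K : Type*) [Field K] [CharP K 2] {e : ℕ} (he : 0 < e) {g : GL chevF4.Idx (ZMod 2)}
    (hg : g ∈ Lie.twistedF4 (ZMod 2) 1) : glF (ZMod 2) K (ZMod.castHom (dvd_refl 2) K) g ∈ Lie.twistedF4 K e := by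
  set f := ZMod.castHom (dvd_refl 2) K with hf
  have ht : ∀ t : ZMod 2, ∀ n : ℕ, 0 < n → t ^ n = t := by
    intro t n hn
    fin_cases t
    · exact zero_pow hn.ne'
    · exact one_pow n
  have h1 : Lie.twistedF4 (ZMod 2) 1 ≤ (Lie.twistedF4 K e).comap (glF (ZMod 2) K f) := by
    refine (Subgroup.closure_le _).2 ?_
    rintro g ⟨w, hw, hgw⟩
    refine Subgroup.subset_closure ⟨w.map fun p => (p.1, f p.2), ?_, ?_⟩
    · rcases hw with ⟨t, hw | hw⟩ | ⟨t, u, hw | hw⟩
      · left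
        refine ⟨f t, Or.inl ?_⟩
        rw [hw]
        simp only [f4PairWord, List.map_cons, List.map_nil, pow_one, ← map_pow, ht t e he]
      · left
        refine ⟨f t, Or.inr ?_⟩
        rw [hw]
        simp only [f4PairWord, List.map_cons, List.map_nil, pow_one, ← map_pow, ht t e he]
      · right
        refine ⟨f t, f u, Or.inl ?_⟩
        rw [hw]
        simp only [b2ClassWord, List.map_cons, List.map_nil, pow_one, ← map_pow, ← map_add, ht t e he,
          ht t (e + 1) (by omega), ht t (1 + 1) (by omega), ht u (2 * e) (by omega), ht u (2 * 1) (by omega)]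
      · right
        refine ⟨f t, f u, Or.inr ?_⟩
        rw [hw]
        simp only [b2ClassWord, List.map_cons, List.map_nil, pow_one, ← map_pow, ← map_add, ht t e he,
          ht t (e + 1) (by omega), ht t (1 + 1) (by omega), ht u (2 * e) (by omega), ht u (2 * 1) (by omega)]
    · rw [coe_glF, hgw]
      exact Cfsg.Agent.ChevalleyStructure.WordEntry.wordMat_map _ f w
  exact h1 hg

/-- **The Sylow `3`-subgroups of `²F₄(q)` are not abelian.** -/
theorem not_abelian_three (K : Type*) [Field K] [Finite K] [CharP K 2] {e : ℕ} (he : 0 < e)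
    (S : Sylow 3 ↥(Lie.twistedF4 K e)) : ¬ IsMulCommutative (S : Subgroup ↥(Lie.twistedF4 K e)) := by
  intro hS
  obtain ⟨x, y, z, hx, hy, hzx, hzy, hxy, hz1⟩ := exists_three
  have := Fact.mk Nat.prime_three
  have hfin : Finite ↥(Lie.twistedF4 K e) := by
    have : Finite (GL chevF4.Idx K) := inferInstance
    infer_instance
  set f := ZMod.castHom (dvd_refl 2) K with hf
  let j : ↥(Lie.twistedF4 (ZMod 2) 1) →* ↥(Lie.twistedF4 K e) :=
    ((glF (ZMod 2) K f).comp (Lie.twistedF4 (ZMod 2) 1).subtype).codRestrict (Lie.twistedF4 K e)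
      fun g => glF_mem K he g.2
  have hj : Function.Injective j := fun a b hab => Subtype.ext (glF_injective _ _ _ (congrArg Subtype.val hab))
  obtain ⟨P, hP, hxP, hyP⟩ := exists_pgroup (G := ↥(Lie.twistedF4 K e)) (p := 3) (x := j x) (y := j y) (z := j z)
    (by rw [← map_pow, hx, map_one]) (by rw [← map_pow, hy, map_one]) (by rw [← map_mul, hzx, map_mul])
    (by rw [← map_mul, hzy, map_mul]) (by rw [← map_mul, hxy, map_mul, map_mul])
  have h1 := comm_of_sylow S hS hP hxP hyP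
  rw [← map_mul, ← map_mul] at h1
  have h2 := hj h1
  rw [hxy] at h2
  exact hz1 (mul_eq_right.1 h2)

end Cfsg.Agent.H42.Tw

private theorem dce_bf3ce8df822a : _root_.True := by
  try have : _root_.True := by simp only [_root_.Cfsg.Lie.f4PairWord.eq_1]
  try have : _root_.True := by simp only [_root_.Cfsg.Lie.b2ClassWord.eq_1]
  exact _root_.True.intro
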