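import Mathlib
import Cfsg.Agent.H565.TwF4Rank
import Cfsg.Agent.LieExceptional.SuzukiCN
import Cfsg.Agent.OddCyclic.ClaimC.SzIso
import Cfsg.Agent.OddRank.SzTits
import Cfsg.Agent.S1156
import Cfsg.Agent.S1158
import Cfsg.Agent.S2358
import Cfsg.Agent.S2359
import Cfsg.Agent.FastGrp
import Cfsg.Agent.Prune
set_option linter.all false
prune_inst 0x7f00000000000000000000000000000000000000000000000000000000000000000000000000000000000000000000000000000000000000000000000000000000000000000000000000000000000000003fffffffffffffffffffffffffffbeffbdffffffff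
open scoped Cfsg.Agent.FastGrp

/-!
# The rows `AbIrr p`, `NormOm p` for `Sz(q)` and `²G₂(q)`

* `sz_cent`, `ree_cent` : the centralisers of the elements of odd order `≠ 1` of `Sz(q)` (of the elements of prime
  order `p > 3` of `²G₂(q)`) are abelian;
* `abIrr_suz`, `normOm_suz` : `p` odd;
* `abIrr_ree`, `normOm_ree` : `p > 3`.
-/

set_option autoImplicit false

namespace Cfsg.Agent.H42.Tw

open Cfsg Cfsg.Agent.H795

universe u

/-! ### abelian centralisers -/

section

open Subgroup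

variable {G : Type u} [Group G]

/-- if the centralisers of the elements of order `p` are abelian then `NormOm p` holds -/
theorem normOm_of_cent [Finite G] {p : ℕ} [hp : Fact p.Prime]
    (h : ∀ x : G, orderOf x = p → ∀ a ∈ centralizer ({x} : Set G), ∀ b ∈ centralizer ({x} : Set G), a * b = b * a) :
    NormOm p G := by
  intro S hS c hc
  rcases (S : Subgroup G).bot_or_nontrivial with h1 | h1
  · rw [h1, normalizer_eq_top]
    exact mem_top c
  · have hpS : p ∣ Nat.card (S : Subgroup G) := by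
      obtain ⟨n, hn⟩ := IsPGroup.iff_card.1 S.isPGroup'
      have h2 : 1 < Nat.card (S : Subgroup G) := Finite.one_lt_card
      have h3 : n ≠ 0 := by
        rintro rfl
        rw [hn, pow_zero] at h2
        exact lt_irrefl _ h2
      rw [hn]
      exact dvd_pow_self p h3
    obtain ⟨x, hx⟩ := exists_prime_orderOf_dvd_card' p hpS
    have hxo : orderOf (x : G) = p := by rw [Subgroup.orderOf_coe, hx]
    have hxp : (x : G) ^ p = 1 := orderOf_dvd_iff_pow_eq_one.1 (dvd_of_eq hxo)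
    have hcx := hc x x.2 hxp
    have hcc : c ∈ centralizer ({(x : G)} : Set G) := by
      rw [mem_centralizer_singleton_iff]
      calc c * x = c * x * c⁻¹ * c := by group
        _ = x * c := by rw [hcx]
    have hSc : ∀ s ∈ (S : Subgroup G), s ∈ centralizer ({(x : G)} : Set G) := by
      intro s hs
      rw [mem_centralizer_singleton_iff]
      exact comm_of hS hs x.2
    have hcomm : ∀ s ∈ (S : Subgroup G), c * s * c⁻¹ = s := by
      intro s hs
      rw [h x hxo c hcc s (hSc s hs)]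
      group
    rw [mem_normalizer_iff]
    intro s
    constructor
    · intro hs
      rw [hcomm s hs]
      exact hs
    · intro hs
      have h2 := hcomm _ hs
      have h3 : c * s * c⁻¹ = s := by
        have h4 : c * (c * s * c⁻¹) * c⁻¹ = c * s * c⁻¹ := h2
        have h5 : c * s * c⁻¹ = s := by
          have := mul_left_cancel (mul_right_cancel h4)
          exact this
        exact h5
      rwa [h3] at hs

theorem abIrr_of_mulEquiv {G H : Type*} [Group G] [Group H] [Finite G] [Finite H] {p : ℕ} [hp : Fact p.Prime] (e : G ≃* H)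
    (h : ∀ P : Subgroup H, IsPGroup p P → IsCyclic P) : AbIrr p G := by
  apply abIrr_of_cyclic
  intro S
  have h1 : IsPGroup p ((S : Subgroup G).map (e : G →* H)) := S.isPGroup'.map _
  have h2 : IsCyclic ↥((S : Subgroup G).map (e : G →* H)) := h _ h1
  exact isCyclic_of_surjective (e.subgroupMap (S : Subgroup G)).symm (e.subgroupMap (S : Subgroup G)).symm.surjective

end

/-! ### `Sz(q)` -/

section

open scoped MatrixGroups Matrix
open Matrix MulAction
open Cfsg.Agent.LieExceptional Cfsg.Agent.LieExceptional.SuzukiBasic Cfsg.Agent.LieExceptional.SuzukiCN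

variable {F : Type*} [Field F] [Fintype F] {m : ℕ}

/-- **The centralisers of the elements `≠ 1` of odd order of `Sz(q)` are abelian.** -/
theorem sz_cent (hm : 1 ≤ m) (hF : Fintype.card F = 2 ^ (2 * m + 1)) {g : Cfsg.Sz F m} (hg : g ≠ 1)
    (hodd : Odd (orderOf g)) : ∀ a ∈ Subgroup.centralizer ({g} : Set (Cfsg.Sz F m)),
      ∀ b ∈ Subgroup.centralizer ({g} : Set (Cfsg.Sz F m)), a * b = b * a := by
  have : Finite (Cfsg.suzukiOvoid F m) := Finite.of_equiv _ (SuzukiBasic.ovoidEquiv F m)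
  have HH := SuzukiHyp.hyp hm hF
  by_cases hfree : g ∈ SuzukiTori.Hyp.free (Cfsg.Sz F m) (Cfsg.suzukiOvoid F m)
  · exact HH.comm_of_free hfree
  rw [SuzukiTori.Hyp.mem_free_iff] at hfree
  push Not at hfree
  obtain ⟨α, hα⟩ := hfree
  have hα' : (g : SL(4, F)) • (α : Projectivization F (Fin 4 → F)) = α := congrArg Subtype.val hα
  by_cases hβ : ∃ β : Cfsg.suzukiOvoid F m, β ≠ α ∧ g • β = β
  · obtain ⟨β, hβ1, hβ2⟩ := hβ
    have hβ' : (g : SL(4, F)) • (β : Projectivization F (Fin 4 → F)) = β := congrArg Subtype.val hβ2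
    obtain ⟨y, hy, hyα, hyβ⟩ := exists_smul_eq hF α.2 β.2 (fun h => hβ1 (Subtype.ext h.symm))
    have hyα' : y⁻¹ • Cfsg.suzukiPointInfinity F = α := by rw [inv_smul_eq_iff, hyα]
    have hyβ' : y⁻¹ • Cfsg.suzukiPointZero F = β := by rw [inv_smul_eq_iff, hyβ]
    obtain ⟨k, hk⟩ := eq_H_of_fix_two hm hF (mul_mem (mul_mem hy g.2) (inv_mem hy))
      (by rw [mul_smul, mul_smul, hyα', hα', hyα]) (by rw [mul_smul, mul_smul, hyβ', hβ', hyβ])
    have hk1 : k ≠ 1 := by
      rintro rfl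
      apply hg
      apply Subtype.ext
      have : (g : SL(4, F)) = y⁻¹ * (y * g * y⁻¹) * y := by group
      rw [this, hk, H_one]
      show y⁻¹ * 1 * y = 1
      group
    have key : ∀ a ∈ Subgroup.centralizer ({g} : Set (Cfsg.Sz F m)),
        ∃ l : Fˣ, y * (a : SL(4, F)) * y⁻¹ = H m l := by
      intro a ha
      have h1 : (a : SL(4, F)) * g = g * a :=
        congrArg Subtype.val (Subgroup.mem_centralizer_singleton_iff.1 ha)
      apply eq_H_of_commute hm hF hk1 (mul_mem (mul_mem hy a.2) (inv_mem hy))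
      rw [← hk]
      have e1 : y * (a : SL(4, F)) * y⁻¹ * (y * g * y⁻¹) = y * (a * g) * y⁻¹ := by group
      have e2 : y * (g : SL(4, F)) * y⁻¹ * (y * a * y⁻¹) = y * (g * a) * y⁻¹ := by group
      rw [e1, e2, h1]
    intro a ha b hb
    obtain ⟨l₁, h₁⟩ := key a ha
    obtain ⟨l₂, h₂⟩ := key b hb
    apply Subtype.ext
    show (a : SL(4, F)) * b = b * a
    have e1 : (a : SL(4, F)) * b = y⁻¹ * ((y * a * y⁻¹) * (y * b * y⁻¹)) * y := by group
    have e2 : (b : SL(4, F)) * a = y⁻¹ * ((y * b * y⁻¹) * (y * a * y⁻¹)) * y := by group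
    rw [e1, e2, h₁, h₂, H_mul, H_mul, mul_comm]
  · exfalso
    push Not at hβ
    have hnt : Nontrivial (Cfsg.suzukiOvoid F m) := by
      rw [← Finite.one_lt_card_iff_nontrivial, HH.card_set]
      have : 0 < (2 ^ (2 * m + 1)) ^ 2 := by positivity
      omega
    obtain ⟨β, hβ1⟩ := exists_ne α
    obtain ⟨y, hy, hyα, -⟩ := exists_smul_eq hF α.2 β.2 (fun h => hβ1 (Subtype.ext h.symm))
    have hyα' : y⁻¹ • Cfsg.suzukiPointInfinity F = α := by rw [inv_smul_eq_iff, hyα]
    have hg' : y * (g : SL(4, F)) * y⁻¹ ∈ Cfsg.Sz F m := mul_mem (mul_mem hy g.2) (inv_mem hy)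
    obtain ⟨a, b, hab⟩ := eq_U_of_fix_only_infinity hm hF hg'
      (by rw [mul_smul, mul_smul, hyα', hα', hyα]) (by
        intro p hp hfix
        by_contra hne
        have hp' : y⁻¹ • p ∈ Cfsg.suzukiOvoid F m := (smul_mem_ovoid (inv_mem hy)).2 hp
        refine hβ ⟨y⁻¹ • p, hp'⟩ ?_ ?_
        · intro h
          have h1 : y⁻¹ • p = α := congrArg Subtype.val h
          apply hne
          rw [← hyα, ← h1, smul_inv_smul]
        · apply Subtype.ext
          show (g : SL(4, F)) • (y⁻¹ • p) = y⁻¹ • p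
          rw [eq_inv_smul_iff, ← mul_smul, ← mul_smul]
          exact hfix)
    -- the order of `U a b` is a power of two
    have h4 : (y * (g : SL(4, F)) * y⁻¹) ^ 4 = 1 := by
      have := charP_two hF
      have e1 : (U m a b) ^ 2 = U m 0 (a ^ 2 ^ (m + 1) * a) := by
        rw [sq, U_mul hF, CharTwo.add_self_eq_zero, CharTwo.add_self_eq_zero, zero_add]
      have e2 : (U m a b) ^ 4 = ((U m a b) ^ 2) ^ 2 := by rw [← pow_mul]
      rw [hab, e2, e1, sq, U_mul hF, CharTwo.add_self_eq_zero, CharTwo.add_self_eq_zero, mul_zero, zero_add,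
        U_zero_zero]
    have h5 : (g : SL(4, F)) ^ 4 = 1 := by
      rw [conj_pow] at h4
      have e : (g : SL(4, F)) ^ 4 = y⁻¹ * (y * (g : SL(4, F)) ^ 4 * y⁻¹) * y := by group
      rw [e, h4]
      group
    have h6 : g ^ 4 = 1 := Subtype.ext h5
    have h7 : orderOf g ∣ 2 ^ 2 := orderOf_dvd_of_pow_eq_one h6
    have h8 : Nat.Coprime (orderOf g) (2 ^ 2) := by
      apply Nat.Coprime.pow_right
      exact hodd.coprime_two_right
    have h9 : orderOf g = 1 := Nat.Coprime.eq_one_of_dvd h8 h7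
    exact hg (orderOf_eq_one_iff.1 h9)

end

/-- **`AbIrr p` for `Sz(q)`, `p` odd.** -/
theorem abIrr_suz {G : Type*} [Group G] [Finite G] (h : Lie.IsoSuzuki G) {p : ℕ} [hp : Fact p.Prime] (hp2 : p ≠ 2) :
    AbIrr p G :=
  abIrr_of_cyclic fun S => Cfsg.Agent.OddRank.SzTits.isCyclic_of_isPGroup h hp2 S S.isPGroup'

/-- **`NormOm p` for `Sz(q)`, `p` odd.** -/
theorem normOm_suz {G : Type*} [Group G] [Finite G] (h : Lie.IsoSuzuki G) {p : ℕ} [hp : Fact p.Prime] (hp2 : p ≠ 2) :
    NormOm p G := by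
  obtain ⟨F, iF, iF', m, hm, hF, ⟨f⟩⟩ := h
  obtain ⟨e⟩ := Cfsg.Agent.OddCyclic.ClaimC.SzIso.iso (F := F) hm hF
  have : Finite (Cfsg.Sz F m) := Finite.of_equiv G (f.trans e.symm).toEquiv
  refine normOm_of_mulEquiv (f.trans e.symm) (normOm_of_cent fun x hx => ?_)
  refine sz_cent hm hF ?_ ?_
  · rintro rfl
    rw [orderOf_one] at hx
    exact hp.out.one_lt.ne hx
  · rw [hx]
    exact hp.out.odd_of_ne_two hp2

/-! ### `²G₂(q)` -/

section

open Subgroup

variable {K : Type*} [Field K] [Fintype K] {m : ℕ}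

theorem finite_ree (hK : Fintype.card K = 3 ^ (2 * m + 1)) : Finite ↥(Cfsg.Lie.twistedG2 K (3 ^ m)) := by
  apply Nat.finite_of_card_ne_zero
  rw [Cfsg.Agent.LieRecognition.ReeFinal.card hK]
  have h2 : 0 < 3 ^ (2 * m + 1) - 1 := by
    have : 3 ^ 1 ≤ 3 ^ (2 * m + 1) := Nat.pow_le_pow_right (by norm_num) (by omega)
    omega
  positivity

/-- an element of order `p` lies in a cyclic subgroup of order `k` if there is one with `p ∣ k` and the cyclic subgroups of
order `p` are conjugate -/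
theorem exists_cyclic {G : Type*} [Group G] [Finite G] {p : ℕ} [hp : Fact p.Prime] {A : Subgroup G} (hA : IsCyclic A)
    (hpA : p ∣ Nat.card A)
    (hcj : ∀ X Y : Subgroup G, IsCyclic X → IsCyclic Y → Nat.card X = p → Nat.card Y = p →
      ∃ g : G, Y = X.map (MulAut.conj g).toMonoidHom) {x : G} (hx : orderOf x = p) :
    ∃ H : Subgroup G, IsCyclic H ∧ Nat.card H = Nat.card A ∧ zpowers x ≤ H := by
  obtain ⟨y, hy⟩ := exists_prime_orderOf_dvd_card' p hpA
  have hyo : orderOf (y : G) = p := by rw [Subgroup.orderOf_coe, hy]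
  obtain ⟨g, hg⟩ := hcj (zpowers (y : G)) (zpowers x) inferInstance inferInstance
    (by rw [Nat.card_zpowers, hyo]) (by rw [Nat.card_zpowers, hx])
  refine ⟨A.map (MulAut.conj g).toMonoidHom, ?_, ?_, ?_⟩
  · exact isCyclic_of_surjective (A.equivMapOfInjective _ (MulAut.conj g).injective)
      (A.equivMapOfInjective _ (MulAut.conj g).injective).surjective
  · exact (Nat.card_congr (A.equivMapOfInjective _ (MulAut.conj g).injective).toEquiv).symm
  · rw [hg]
    exact map_mono (zpowers_le.2 y.2)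

/-- **The centralisers of the elements of prime order `p > 3` of `²G₂(q)` are abelian.** -/
theorem ree_cent (hm : 1 ≤ m) (hK : Fintype.card K = 3 ^ (2 * m + 1)) {p : ℕ} [hp : Fact p.Prime] (h3 : 3 < p)
    {x : ↥(Cfsg.Lie.twistedG2 K (3 ^ m))} (hx : orderOf x = p) :
    IsMulCommutative ↥(centralizer ({x} : Set ↥(Cfsg.Lie.twistedG2 K (3 ^ m)))) := by
  have hpp := hp.out
  have hfin := finite_ree hK
  have hx1 : x ≠ 1 := by
    rintro rfl
    rw [orderOf_one] at hx
    omega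
  have hz1 : zpowers x ≠ ⊥ := fun h => hx1 (zpowers_eq_bot.1 h)
  have hcz : centralizer ({x} : Set ↥(Cfsg.Lie.twistedG2 K (3 ^ m))) =
      centralizer ((zpowers x : Subgroup ↥(Cfsg.Lie.twistedG2 K (3 ^ m))) : Set ↥(Cfsg.Lie.twistedG2 K (3 ^ m))) := by
    rw [zpowers_eq_closure, centralizer_closure]
  have h2p : ¬ p ∣ 2 := fun h => by
    have := Nat.le_of_dvd (by norm_num) h
    omega
  have h4p : ¬ p ∣ 4 := fun h => h2p (hpp.dvd_of_dvd_pow (show p ∣ 2 ^ 2 from h))
  have hq1 : 3 ^ 1 ≤ 3 ^ (2 * m + 1) := Nat.pow_le_pow_right (by norm_num) (by omega)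
  have hq3 : (3 ^ (2 * m + 1)) % 4 = 3 := by
    have e : 3 ^ (2 * m + 1) = 9 ^ m * 3 := by rw [pow_succ, pow_mul]; norm_num
    rw [e, Nat.mul_mod, Nat.pow_mod]
    norm_num
  by_cases hd1 : p ∣ 3 ^ (2 * m + 1) - 1
  · have hd : p ∣ (3 ^ (2 * m + 1) - 1) / 2 := by
      have e : 3 ^ (2 * m + 1) - 1 = 2 * ((3 ^ (2 * m + 1) - 1) / 2) := by omega
      rw [e] at hd1
      exact (hpp.dvd_mul.1 hd1).resolve_left h2p
    obtain ⟨A, hA, hAc, -⟩ := Cfsg.Agent.S1158.result hm hK
      ((3 ^ (2 * m + 1) - 1) / 2, 2 * (3 ^ (2 * m + 1) - 1)) (by simp)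
    obtain ⟨H, hH, hHc, hxH⟩ := exists_cyclic (p := p) hA (by rw [hAc]; exact hd)
      (fun X Y hX hY hXc hYc => Cfsg.Agent.S2358.result hm hK p (Or.inl hd) X Y hX hY hXc hYc) hx
    obtain ⟨hc1, -, hc2⟩ := (Cfsg.Agent.S2359.result hm hK H hH).1 (by rw [hHc, hAc])
    rw [hcz, hc2 _ hxH hz1]
    exact IsCyclic.isMulCommutative
  by_cases hd2 : p ∣ 3 ^ (2 * m + 1) + 1
  · have hd : p ∣ (3 ^ (2 * m + 1) + 1) / 4 := by
      have e : 3 ^ (2 * m + 1) + 1 = 4 * ((3 ^ (2 * m + 1) + 1) / 4) := by omega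
      rw [e] at hd2
      exact (hpp.dvd_mul.1 hd2).resolve_left h4p
    obtain ⟨A, hA, hAc, -⟩ := Cfsg.Agent.S1158.result hm hK
      ((3 ^ (2 * m + 1) + 1) / 4, 6 * (3 ^ (2 * m + 1) + 1)) (by simp)
    obtain ⟨H, hH, hHc, hxH⟩ := exists_cyclic (p := p) hA (by rw [hAc]; exact hd)
      (fun X Y hX hY hXc hYc => Cfsg.Agent.S2358.result hm hK p (Or.inr (Or.inl hd)) X Y hX hY hXc hYc) hx
    obtain ⟨hc1, -, -, hc2⟩ := (Cfsg.Agent.S2359.result hm hK H hH).2 (by rw [hHc, hAc])
    rw [hcz, hc2 _ hxH hz1]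
    exact hc1
  · have hdc : p ∣ Nat.card ↥(Cfsg.Lie.twistedG2 K (3 ^ m)) := hx ▸ orderOf_dvd_natCard x
    have hd : p ∣ (3 ^ (2 * m + 1)) ^ 2 - 3 ^ (2 * m + 1) + 1 := by
      rw [Cfsg.Agent.LieRecognition.ReeFinal.card hK] at hdc
      have e : (3 ^ (2 * m + 1)) ^ 3 + 1 = (3 ^ (2 * m + 1) + 1) * ((3 ^ (2 * m + 1)) ^ 2 - 3 ^ (2 * m + 1) + 1) := by
        generalize 3 ^ (2 * m + 1) = q at *
        obtain ⟨t, ht⟩ : ∃ t, q ^ 2 = q + t := Nat.exists_eq_add_of_le (Nat.le_self_pow two_ne_zero q)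
        have e1 : q ^ 2 - q + 1 = t + 1 := by omega
        rw [e1]
        have e2 : q ^ 3 = q * q ^ 2 := by ring
        have e3 : q * q = q + t := by rw [← ht]; ring
        rw [e2, ht, mul_add, e3]
        ring
      rw [e] at hdc
      rcases hpp.dvd_mul.1 hdc with h | h
      · rcases hpp.dvd_mul.1 h with h | h
        · exfalso
          have := hpp.dvd_of_dvd_pow (hpp.dvd_of_dvd_pow h)
          have := Nat.le_of_dvd (by norm_num) this
          omega
        · exact absurd h hd1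
      · rcases hpp.dvd_mul.1 h with h | h
        · exact absurd h hd2
        · exact h
    have hc := (Cfsg.Agent.LieRecognition.ReeTorusTw.isCyclic_centralizer hK hx1 (hx ▸ hd)).1
    exact IsCyclic.isMulCommutative

end

/-- **`AbIrr p` for `²G₂(q)`, `p > 3`.** -/
theorem abIrr_ree {G : Type*} [Group G] [Finite G] (h : Lie.IsoRee G) {p : ℕ} [hp : Fact p.Prime] (h3 : 3 < p) :
    AbIrr p G := by
  obtain ⟨K, iK, iK', m, hm, hK, ⟨f⟩⟩ := h
  have : Finite ↥(Cfsg.Lie.twistedG2 K (3 ^ m)) := finite_ree hK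
  refine abIrr_of_mulEquiv f fun P hP => ?_
  obtain ⟨S, hS⟩ := hP.exists_le_sylow
  have := Cfsg.Agent.S1156.result hm hK h3 S
  exact isCyclic_of_injective (Subgroup.inclusion hS) (Subgroup.inclusion_injective hS)

/-- **`NormOm p` for `²G₂(q)`, `p > 3`.** -/
theorem normOm_ree {G : Type*} [Group G] [Finite G] (h : Lie.IsoRee G) {p : ℕ} [hp : Fact p.Prime] (h3 : 3 < p) :
    NormOm p G := by
  obtain ⟨K, iK, iK', m, hm, hK, ⟨f⟩⟩ := h
  have : Finite ↥(Cfsg.Lie.twistedG2 K (3 ^ m)) := finite_ree hK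
  refine normOm_of_mulEquiv f (normOm_of_cent fun x hx a ha b hb => ?_)
  exact comm_of (ree_cent hm hK h3 hx) ha hb

/-- the Sylow `p`-subgroups of `²G₂(q)` are cyclic for `p > 3` -/
theorem cyclic_ree {G : Type*} [Group G] [Finite G] (h : Lie.IsoRee G) {p : ℕ} [hp : Fact p.Prime] (h3 : 3 < p)
    (P : Subgroup G) (hP : IsPGroup p P) : IsCyclic P := by
  obtain ⟨K, iK, iK', m, hm, hK, ⟨f⟩⟩ := h
  have : Finite ↥(Cfsg.Lie.twistedG2 K (3 ^ m)) := finite_ree hK
  obtain ⟨S, hS⟩ := (hP.map (f : G →* ↥(Cfsg.Lie.twistedG2 K (3 ^ m)))).exists_le_sylow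
  have := Cfsg.Agent.S1156.result hm hK h3 S
  have h1 : IsCyclic ↥(P.map (f : G →* ↥(Cfsg.Lie.twistedG2 K (3 ^ m)))) :=
    isCyclic_of_injective (Subgroup.inclusion hS) (Subgroup.inclusion_injective hS)
  exact isCyclic_of_surjective (f.subgroupMap P).symm (f.subgroupMap P).symm.surjective

end Cfsg.Agent.H42.Tw
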